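import Cfsg.Agent.H46.Qd2
import Cfsg.Agent.H46.SylOf

set_option autoImplicit false

namespace Cfsg.Agent.H46

open Cfsg Matrix

local notation "SL2" => Matrix.SpecialLinearGroup (Fin 2)

section

/-- For `T` characteristic in `S`: `N(S) ≤ N(T)`. -/
theorem normalizer_le_of_characteristic {G : Type*} [Group G] (S : Subgroup G) (T : Subgroup ↥S)
    (hT : T.Characteristic) :
    Subgroup.normalizer (S : Set G) ≤ Subgroup.normalizer ((T.map S.subtype : Subgroup G) : Set G) := by
  intro g hg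
  rw [mem_normalizer_iff_map_conj]
  let φ : ↥S ≃* ↥S := Subgroup.normalizerMonoidHom S ⟨g, hg⟩
  have h1 : T.map φ.toMonoidHom = T := Subgroup.characteristic_iff_map_eq.1 hT φ
  conv_rhs => rw [← h1]
  rw [Subgroup.map_map, Subgroup.map_map]
  congr 1

/-- Transport of a statement on characteristic subgroups along an isomorphism. -/
theorem normalizer_transport {G : Type*} [Group G] (c : G ≃* G) (S₀ : Subgroup G)
    (h : ∀ T₀ : Subgroup ↥S₀, T₀ ≠ ⊥ → T₀.Characteristic →
      Subgroup.normalizer ((T₀.map S₀.subtype : Subgroup G) : Set G) = Subgroup.normalizer (S₀ : Set G))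
    (S : Subgroup G) (hS : S = S₀.map c.toMonoidHom) (T : Subgroup ↥S) (hT : T ≠ ⊥)
    (hTc : T.Characteristic) :
    Subgroup.normalizer ((T.map S.subtype : Subgroup G) : Set G) = Subgroup.normalizer (S : Set G) := by
  subst hS
  let e : ↥S₀ ≃* ↥(S₀.map c.toMonoidHom) := S₀.equivMapOfInjective c.toMonoidHom c.injective
  have h1 := h (T.map e.symm.toMonoidHom) ?_ ?_
  · have h2 : T.map (S₀.map c.toMonoidHom).subtype =
        ((T.map e.symm.toMonoidHom).map S₀.subtype).map c.toMonoidHom := by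
      rw [Subgroup.map_map, Subgroup.map_map]
      congr 1
      ext x
      have := congrArg Subtype.val (e.apply_symm_apply x)
      exact this.symm
    have h3 : ∀ K : Subgroup G, Subgroup.normalizer ((K.map c.toMonoidHom : Subgroup G) : Set G) =
        (Subgroup.normalizer (K : Set G)).map c.toMonoidHom := fun K =>
      (Subgroup.map_equiv_normalizer_eq K c).symm
    rw [h2, h3, h1, h3]
  · intro h0
    apply hT
    rw [Subgroup.map_eq_bot_iff] at h0
    rw [eq_bot_iff]
    intro x hx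
    have := h0 hx
    have h5 : e.symm x = 1 := MonoidHom.mem_ker.1 this
    exact e.symm.injective (by rw [h5, map_one])
  · rw [Subgroup.characteristic_iff_map_eq]
    intro φ
    have h4 := Subgroup.characteristic_iff_map_eq.1 hTc ((e.symm.trans φ).trans e)
    conv_rhs => rw [← h4]
    rw [Subgroup.map_map, Subgroup.map_map]
    congr 1
    ext x : 1
    exact (e.symm_apply_apply (φ (e.symm x))).symm

variable {F : Type*} [Field F]

/-- upper unitriangular element -/
def sl2U (a : F) : SL2 F := ⟨!![1, a; 0, 1], by rw [det_fin_two_of]; ring⟩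

theorem sl2U_coe (a : F) : (sl2U a : Matrix (Fin 2) (Fin 2) F) = !![1, a; 0, 1] := rfl

theorem sl2U_mul (a b : F) : sl2U a * sl2U b = sl2U (a + b) := by
  ext i j
  rw [Matrix.SpecialLinearGroup.coe_mul, sl2U_coe, sl2U_coe, sl2U_coe]
  fin_cases i <;> fin_cases j <;> simp [Matrix.mul_apply, Fin.sum_univ_two, add_comm]

theorem sl2U_zero : sl2U (0 : F) = 1 := by
  ext i j
  rw [sl2U_coe]
  fin_cases i <;> fin_cases j <;> simp

theorem sl2U_inv (a : F) : (sl2U a)⁻¹ = sl2U (-a) := by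
  rw [inv_eq_iff_mul_eq_one, sl2U_mul, add_neg_cancel, sl2U_zero]

theorem sl2U_injective {a b : F} (h : sl2U a = sl2U b) : a = b := by
  have := congrArg (fun M : SL2 F => (M : Matrix (Fin 2) (Fin 2) F) 0 1) h
  simpa [sl2U_coe] using this

theorem exists_sl2U {A : SL2 F} (h : (A : Matrix (Fin 2) (Fin 2) F) *ᵥ ![1, 0] = ![1, 0]) :
    ∃ a, A = sl2U a := by
  have h0 := congrFun h 0
  have h1 := congrFun h 1
  simp [mulVec, dotProduct, Fin.sum_univ_two] at h0 h1
  have hd := A.2
  rw [det_fin_two] at hd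
  have h00 : (A : Matrix (Fin 2) (Fin 2) F) 0 0 = 1 := h0
  have h10 : (A : Matrix (Fin 2) (Fin 2) F) 1 0 = 0 := h1
  have h11 : (A : Matrix (Fin 2) (Fin 2) F) 1 1 = 1 := by
    rw [h00, h10] at hd
    linear_combination hd
  refine ⟨(A : Matrix (Fin 2) (Fin 2) F) 0 1, ?_⟩
  ext i j
  rw [sl2U_coe]
  fin_cases i <;> fin_cases j
  · exact h00
  · rfl
  · exact h10
  · exact h11

/-- unitriangular elements of `Qd(F)`: the matrix `(1 a c; 0 1 b; 0 0 1)` -/
def uniE (a b c : F) : ↥(qdOver F) := qdElt (sl2U a) ![c, b]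

theorem uniE_mul (a b c a' b' c' : F) :
    uniE a b c * uniE a' b' c' = uniE (a + a') (b + b') (c + c' + a * b') := by
  unfold uniE
  rw [qdElt_mul, sl2U_mul]
  congr 1
  ext i
  fin_cases i <;> simp [sl2U_coe] <;> ring

theorem uniE_zero : uniE (0 : F) 0 0 = 1 := by
  unfold uniE
  rw [sl2U_zero, ← qdElt_one]
  congr 1
  ext i
  fin_cases i <;> simp

theorem uniE_inv (a b c : F) : (uniE a b c)⁻¹ = uniE (-a) (-b) (a * b - c) := by
  rw [inv_eq_iff_mul_eq_one, uniE_mul, ← uniE_zero]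
  congr 1 <;> ring

theorem uniE_injective {a b c a' b' c' : F} (h : uniE a b c = uniE a' b' c') :
    a = a' ∧ b = b' ∧ c = c' := by
  obtain ⟨h1, h2⟩ := qdElt_injective h
  refine ⟨sl2U_injective h1, ?_, ?_⟩
  · simpa using congrFun h2 1
  · simpa using congrFun h2 0

/-- The unitriangular subgroup. -/
def uniS (F : Type*) [Field F] : Subgroup ↥(qdOver F) where
  carrier := {M | ∃ a b c, M = uniE a b c}
  one_mem' := ⟨0, 0, 0, uniE_zero.symm⟩
  mul_mem' := by
    rintro _ _ ⟨a, b, c, rfl⟩ ⟨a', b', c', rfl⟩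
    exact ⟨_, _, _, uniE_mul _ _ _ _ _ _⟩
  inv_mem' := by
    rintro _ ⟨a, b, c, rfl⟩
    exact ⟨_, _, _, uniE_inv _ _ _⟩

theorem uniE_mem (a b c : F) : uniE a b c ∈ uniS F := ⟨a, b, c, rfl⟩

theorem mem_uniS_iff {A : SL2 F} {v : Fin 2 → F} :
    qdElt A v ∈ uniS F ↔ (A : Matrix (Fin 2) (Fin 2) F) *ᵥ ![1, 0] = ![1, 0] := by
  constructor
  · rintro ⟨a, b, c, h⟩
    obtain ⟨h1, _⟩ := qdElt_injective h
    rw [h1, sl2U_coe]
    ext i
    fin_cases i <;> simp
  · intro h
    obtain ⟨a, rfl⟩ := exists_sl2U h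
    refine ⟨a, v 1, v 0, ?_⟩
    unfold uniE
    congr 1
    ext i
    fin_cases i <;> simp

theorem uniE_mem_ker {a b c : F} : uniE a b c ∈ (qdProj (F := F)).ker ↔ a = 0 := by
  unfold uniE
  rw [mem_ker_qdProj, ← sl2U_zero]
  exact ⟨fun h => sl2U_injective h, fun h => by rw [h]⟩

theorem sl2U_pow (a : F) (k : ℕ) : (sl2U a) ^ k = sl2U (k * a) := by
  induction k with
  | zero => simp [sl2U_zero]
  | succ k ih => rw [pow_succ, ih, sl2U_mul]; congr 1; push_cast; ring

theorem uniS_isPGroup {p : ℕ} [Fact p.Prime] [CharP F p] : IsPGroup p (uniS F) := by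
  rintro ⟨M, a, b, c, rfl⟩
  -- `M ^ p ∈ ker`, `M ^ (p * p) = 1`
  have h1 : (uniE a b c) ^ p ∈ (qdProj (F := F)).ker := by
    rw [MonoidHom.mem_ker, map_pow]
    unfold uniE
    rw [qdProj_elt, sl2U_pow, CharP.cast_eq_zero, zero_mul, sl2U_zero]
  obtain ⟨k, hk⟩ := qdKer_isPGroup (p := p) ⟨_, h1⟩
  refine ⟨1 + k, ?_⟩
  apply Subtype.ext
  have := congrArg Subtype.val hk
  show (uniE a b c) ^ p ^ (1 + k) = 1
  rw [pow_add, pow_one, pow_mul]
  exact this

/-- Every Sylow `p`-subgroup of `Qd(F)` is conjugate to the unitriangular group. -/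
theorem sylow_qd_eq [Finite F] {p : ℕ} [Fact p.Prime] [CharP F p] (S : Sylow p ↥(qdOver F)) :
    ∃ g : ↥(qdOver F), (S : Subgroup ↥(qdOver F)) = (uniS F).map (MulAut.conj g).toMonoidHom := by
  obtain ⟨w, hw, hfix⟩ := sl2_pSubgroup_fix (p := p) ((S : Subgroup ↥(qdOver F)).map qdProj) (S.2.map _)
  obtain ⟨g, hg⟩ := exists_sl2_mulVec w hw
  refine ⟨qdElt g 0, ?_⟩
  symm
  apply S.is_maximal'
  · exact (uniS_isPGroup).map _
  · intro M hM
    obtain ⟨A, v, rfl⟩ := exists_qdElt M
    refine ⟨(qdElt g 0)⁻¹ * qdElt A v * qdElt g 0, ?_, ?_⟩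
    · rw [qdElt_inv, qdElt_mul, qdElt_mul]
      refine mem_uniS_iff.2 ?_
      have h1 := hfix A ⟨_, hM, qdProj_elt A v⟩
      rw [mul_assoc, Matrix.SpecialLinearGroup.coe_mul, ← mulVec_mulVec, Matrix.SpecialLinearGroup.coe_mul,
        ← mulVec_mulVec, hg, h1, ← hg, mulVec_mulVec, ← Matrix.SpecialLinearGroup.coe_mul, inv_mul_cancel,
        Matrix.SpecialLinearGroup.coe_one, one_mulVec]
    · simp only [MulEquiv.coe_toMonoidHom, MulAut.conj_apply]
      group

/-- The unitriangular group is not normal. -/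
theorem normalizer_uniS_ne_top [Finite F] {p : ℕ} [Fact p.Prime] [CharP F p] :
    Subgroup.normalizer (uniS F : Set ↥(qdOver F)) ≠ ⊤ := by
  intro h
  have hn : (uniS F).Normal := Subgroup.normalizer_eq_top_iff.1 h
  have h1 : uniS F ≤ pCore p ↥(qdOver F) := Cfsg.Agent.Solv.le_pCore hn uniS_isPGroup
  rw [pCore_qd] at h1
  exact one_ne_zero (uniE_mem_ker.1 (h1 (uniE_mem (1 : F) 0 0)))

/-- parametrisation of the unitriangular group -/
noncomputable def uniPar (F : Type*) [Field F] : F × F × F ≃ ↥(uniS F) :=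
  Equiv.ofBijective (fun x => ⟨uniE x.1 x.2.1 x.2.2, uniE_mem _ _ _⟩) ⟨by
    rintro ⟨a, b, c⟩ ⟨a', b', c'⟩ h
    obtain ⟨h1, h2, h3⟩ := uniE_injective (congrArg Subtype.val h)
    simp only at h1 h2 h3
    rw [h1, h2, h3], by
    rintro ⟨M, a, b, c, rfl⟩
    exact ⟨(a, b, c), rfl⟩⟩

theorem uniPar_symm (a b c : F) : (uniPar F).symm ⟨uniE a b c, uniE_mem _ _ _⟩ = (a, b, c) :=
  (uniPar F).symm_apply_apply (a, b, c)

/-- the exotic automorphism of the unitriangular group, on parameters -/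
def uniT (F : Type*) [Field F] : F × F × F ≃ F × F × F where
  toFun := fun x => (-x.2.1, -x.1, x.1 * x.2.1 - x.2.2)
  invFun := fun x => (-x.2.1, -x.1, x.1 * x.2.1 - x.2.2)
  left_inv := by
    rintro ⟨a, b, c⟩
    simp only [neg_neg, Prod.mk.injEq, true_and]
    ring
  right_inv := by
    rintro ⟨a, b, c⟩
    simp only [neg_neg, Prod.mk.injEq, true_and]
    ring

/-- the exotic automorphism of the unitriangular group -/
noncomputable def uniTheta (F : Type*) [Field F] : ↥(uniS F) ≃* ↥(uniS F) where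
  toEquiv := ((uniPar F).symm.trans (uniT F)).trans (uniPar F)
  map_mul' := by
    rintro ⟨M, a, b, c, rfl⟩ ⟨N, a', b', c', rfl⟩
    apply Subtype.ext
    show (((uniPar F) (uniT F ((uniPar F).symm ⟨uniE a b c * uniE a' b' c', _⟩)) : ↥(uniS F)) : ↥(qdOver F)) =
      (((uniPar F) (uniT F ((uniPar F).symm ⟨uniE a b c, _⟩)) : ↥(uniS F)) : ↥(qdOver F)) *
        (((uniPar F) (uniT F ((uniPar F).symm ⟨uniE a' b' c', _⟩)) : ↥(uniS F)) : ↥(qdOver F))
    have e2 : ((uniPar F).symm ⟨uniE a b c * uniE a' b' c', (uniS F).mul_mem (uniE_mem _ _ _) (uniE_mem _ _ _)⟩) =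
        (a + a', b + b', c + c' + a * b') := by
      rw [← uniPar_symm]
      congr 1
      apply Subtype.ext
      exact uniE_mul _ _ _ _ _ _
    rw [uniPar_symm, uniPar_symm, e2]
    show uniE (-(b + b')) (-(a + a')) ((a + a') * (b + b') - (c + c' + a * b')) =
      uniE (-b) (-a) (a * b - c) * uniE (-b') (-a') (a' * b' - c')
    rw [uniE_mul]
    congr 1 <;> ring

theorem uniTheta_apply (a b c : F) :
    ((uniTheta F ⟨uniE a b c, uniE_mem _ _ _⟩ : ↥(uniS F)) : ↥(qdOver F)) = uniE (-b) (-a) (a * b - c) := by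
  show (((uniPar F) (uniT F ((uniPar F).symm ⟨uniE a b c, uniE_mem _ _ _⟩)) : ↥(uniS F)) : ↥(qdOver F)) = _
  rw [uniPar_symm]
  rfl

theorem ZMod_exists_natCast_mul {p : ℕ} [Fact p.Prime] (a b : ZMod p) (ha : a ≠ 0) :
    ∃ k : ℕ, b = (k : ZMod p) * a := by
  refine ⟨(b * a⁻¹).val, ?_⟩
  rw [ZMod.natCast_zmod_val, mul_assoc, inv_mul_cancel₀ ha, mul_one]

theorem uniE_conj (a b c : F) (x y : F) :
    uniE a b c * uniE 0 x y * (uniE a b c)⁻¹ = uniE 0 x (y + a * x) := by
  rw [uniE_inv, uniE_mul, uniE_mul]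
  congr 1 <;> ring

theorem uniE_zero_pow (x y : F) (k : ℕ) : (uniE 0 x y) ^ k = uniE 0 (k * x) (k * y) := by
  induction k with
  | zero => simp [uniE_zero]
  | succ k ih =>
    rw [pow_succ, ih, uniE_mul]
    congr 1 <;> push_cast <;> ring

/-- The main point of S2763 for the standard Sylow subgroup. -/
theorem normalizer_char_uniS {p : ℕ} [Fact p.Prime] (T : Subgroup ↥(uniS (ZMod p))) (hT : T ≠ ⊥)
    (hTc : T.Characteristic) :
    Subgroup.normalizer ((T.map (uniS (ZMod p)).subtype : Subgroup ↥(qdOver (ZMod p))) : Set ↥(qdOver (ZMod p))) =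
      Subgroup.normalizer (uniS (ZMod p) : Set ↥(qdOver (ZMod p))) := by
  set K := T.map (uniS (ZMod p)).subtype with hK
  set V := (qdProj (F := ZMod p)).ker with hV
  have hVS : V ≤ uniS (ZMod p) := by
    intro M hM
    obtain ⟨A, v, rfl⟩ := exists_qdElt M
    have hA := mem_ker_qdProj.1 hM
    subst hA
    refine mem_uniS_iff.2 ?_
    simp
  have hKS : K ≤ uniS (ZMod p) := Subgroup.map_subtype_le _
  have hTn : T.Normal := inferInstance
  have hKn : ∀ s ∈ uniS (ZMod p), ∀ k ∈ K, s * k * s⁻¹ ∈ K := by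
    rintro s hs _ ⟨t, ht, rfl⟩
    exact ⟨_, hTn.conj_mem t ht ⟨s, hs⟩, rfl⟩
  apply le_antisymm _ (normalizer_le_of_characteristic _ _ hTc)
  by_cases hTV : K ≤ V
  · -- `K` contains the centre
    have hZ : ∀ c : ZMod p, uniE 0 0 c ∈ K := by
      obtain ⟨t, ht, ht1⟩ : ∃ t ∈ K, t ≠ 1 := by
        by_contra hcon
        push Not at hcon
        apply hT
        rw [eq_bot_iff]
        intro x hx
        have := hcon (x : ↥(qdOver (ZMod p))) ⟨x, hx, rfl⟩
        exact Subtype.ext this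
      obtain ⟨a, x, y, rfl⟩ := hKS ht
      have ha : a = 0 := uniE_mem_ker.1 (hTV ht)
      subst ha
      obtain ⟨z, hz, hzK⟩ : ∃ z : ZMod p, z ≠ 0 ∧ uniE 0 0 z ∈ K := by
        by_cases hx : x = 0
        · subst hx
          refine ⟨y, ?_, ht⟩
          rintro rfl
          exact ht1 uniE_zero
        · refine ⟨x, hx, ?_⟩
          have h1 := hKn _ (uniE_mem 1 0 0) _ ht
          rw [uniE_conj] at h1
          have h2 := K.mul_mem h1 (K.inv_mem ht)
          rw [uniE_inv, uniE_mul] at h2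
          convert h2 using 2 <;> ring
      intro c
      obtain ⟨k, hk⟩ := ZMod_exists_natCast_mul z c hz
      have := K.pow_mem hzK k
      rw [uniE_zero_pow, mul_zero, ← hk] at this
      exact this
    by_cases hx : ∃ x y, x ≠ 0 ∧ uniE 0 x y ∈ K
    · -- then `K = V`, contradiction
      exfalso
      obtain ⟨x, y, hx0, hxy⟩ := hx
      have hall : ∀ b c : ZMod p, uniE 0 b c ∈ K := by
        intro b c
        obtain ⟨k, hk⟩ := ZMod_exists_natCast_mul x b hx0
        have h1 := K.mul_mem (K.pow_mem hxy k) (hZ (c - k * y))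
        rw [uniE_zero_pow, uniE_mul] at h1
        have e1 : (k : ZMod p) * x + 0 = b := by rw [hk, add_zero]
        have e2 : (k : ZMod p) * y + (c - k * y) + 0 * 0 = c := by ring
        rw [e1, e2, add_zero] at h1
        exact h1
      obtain ⟨t, ht, hte⟩ := hall 1 0
      have h2 : T.map (uniTheta (ZMod p)).toMonoidHom = T := Subgroup.characteristic_iff_map_eq.1 hTc _
      have h3 : uniTheta (ZMod p) t ∈ T := by
        rw [← h2]; exact ⟨t, ht, rfl⟩
      have h4 : ((uniTheta (ZMod p) t : ↥(uniS (ZMod p))) : ↥(qdOver (ZMod p))) ∈ K := ⟨_, h3, rfl⟩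
      have h5 : t = ⟨uniE 0 1 0, uniE_mem _ _ _⟩ := Subtype.ext hte
      rw [h5, uniTheta_apply] at h4
      have h6 := uniE_mem_ker.1 (hTV h4)
      exact one_ne_zero (neg_eq_zero.1 h6)
    · push Not at hx
      -- `K = Z`; its centralizer is `uniS (ZMod p)`
      have hC : Subgroup.centralizer (K : Set ↥(qdOver (ZMod p))) = uniS (ZMod p) := by
        ext M
        rw [Subgroup.mem_centralizer_iff]
        constructor
        · intro h
          obtain ⟨A, v, rfl⟩ := exists_qdElt M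
          refine mem_uniS_iff.2 ?_
          have h1 := h _ (hZ 1)
          have h2 : uniE (0 : ZMod p) 0 1 = qdElt 1 ![1, 0] := by
            unfold uniE; rw [sl2U_zero]
          rw [h2, qdElt_mul, qdElt_mul] at h1
          have h3 := (qdElt_injective h1).2
          rw [Matrix.SpecialLinearGroup.coe_one, one_mulVec, add_comm] at h3
          exact (add_right_cancel h3).symm
        · rintro ⟨a, b, c, rfl⟩ k hk
          obtain ⟨a', x, y, rfl⟩ := hKS hk
          have ha : a' = 0 := uniE_mem_ker.1 (hTV hk)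
          subst ha
          have hx0 : x = 0 := by
            by_contra hx0
            exact hx x y hx0 hk
          subst hx0
          rw [uniE_mul, uniE_mul]
          congr 1 <;> ring
      intro g hg
      rw [mem_normalizer_iff_map_conj] at hg ⊢
      rw [← hC, map_centralizer, hg]
  · -- `K V = uniS (ZMod p)`
    have hsup : K ⊔ V = uniS (ZMod p) := by
      apply le_antisymm (sup_le hKS hVS)
      obtain ⟨t, ht, htV⟩ := SetLike.not_le_iff_exists.1 hTV
      obtain ⟨a, b, c, rfl⟩ := hKS ht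
      have ha : a ≠ 0 := fun h => htV (uniE_mem_ker.2 h)
      rintro M ⟨a', b', c', rfl⟩
      obtain ⟨k, hk⟩ := ZMod_exists_natCast_mul a a' ha
      have h1 : uniE a' b' c' * ((uniE a b c) ^ k)⁻¹ ∈ V := by
        rw [hV, MonoidHom.mem_ker, map_mul, map_inv, map_pow]
        unfold uniE
        rw [qdProj_elt, qdProj_elt, sl2U_pow, ← hk, mul_inv_cancel]
      have h2 : uniE a' b' c' = (uniE a' b' c' * ((uniE a b c) ^ k)⁻¹) * (uniE a b c) ^ k := by group
      rw [h2]
      exact Subgroup.mul_mem _ (Subgroup.mem_sup_right h1) (Subgroup.mem_sup_left (K.pow_mem ht k))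
    intro g hg
    rw [mem_normalizer_iff_map_conj] at hg ⊢
    have hVn : V.map (MulAut.conj g).toMonoidHom = V := by
      apply mem_normalizer_iff_map_conj.1
      rw [Subgroup.normalizer_eq_top]
      trivial
    rw [← hsup, Subgroup.map_sup, hg, hVn]

end

end Cfsg.Agent.H46
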