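import Cfsg.Agent.H38.PSU3
import Cfsg.Agent.QdInv.Control
import Cfsg.Agent.H33.SecControl
/-!
`p`-local subgroups of `SU₃(q)`, `q` a power of `p`, have a normal Sylow `p`-subgroup.
-/
set_option autoImplicit false
set_option linter.all false

namespace Cfsg.Agent.H46

open Matrix Cfsg Cfsg.Agent.Uni Cfsg.Agent.AutPSU Cfsg.Agent.H38.PSU3 Cfsg.Agent.QdInv

variable {F : Type*} [Field F] [Fintype F] {q : ℕ}

/-- an element fixing a hyperbolic pair and of `p`-power order is trivial -/
theorem eq_one_of_fix' (hF : Fintype.card F = q ^ 2) {p : ℕ} [hp : Fact p.Prime] [CharP F p] {u v : Fin 3 → F}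
    (hv : Hyp q u v) {k : SU 3 F q} {m : ℕ} (hk : k ^ p ^ m = 1) (hu : act k u = u) (hkv : act k v = v) : k = 1 := by
  have hfr : Module.finrank F (perp q (Submodule.span F {u, v})) = 1 := hv.finrank_perp hF
  obtain ⟨⟨z, hz⟩, hz0, hzs⟩ := finrank_eq_one_iff'.1 hfr
  have hz0' : z ≠ 0 := fun h => hz0 (Subtype.ext h)
  obtain ⟨hzu, hzv⟩ := (Hyp.mem_perp_iff hF).1 hz
  have hkz : act k z ∈ perp q (Submodule.span F {u, v}) := by
    rw [Hyp.mem_perp_iff hF]
    constructor
    · rw [← hu, act_form, hzu]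
    · rw [← hkv, act_form, hzv]
  obtain ⟨c, hc⟩ := hzs ⟨_, hkz⟩
  have hc' : c • z = act k z := congrArg Subtype.val hc
  have hpow : ∀ j : ℕ, act (k ^ j) z = c ^ j • z := by
    intro j
    induction j with
    | zero => rw [pow_zero, act_one, pow_zero, one_smul]
    | succ j ih => rw [_root_.pow_succ', act_mul, ih, act_smul, ← hc', smul_smul, _root_.pow_succ]
  have h1 := hpow (p ^ m)
  rw [hk, act_one] at h1
  have h2 : c ^ p ^ m = 1 := by
    have h3 : (c ^ p ^ m - 1) • z = 0 := by rw [sub_smul, one_smul, ← h1, sub_self]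
    exact sub_eq_zero.1 ((smul_eq_zero.1 h3).resolve_right hz0')
  have h3 : c = 1 := by
    have h4 : (c - 1) ^ p ^ m = 0 := by
      rw [sub_pow_char_pow, h2, one_pow, sub_self]
    exact sub_eq_zero.1 (pow_eq_zero_iff (pow_ne_zero _ hp.out.ne_zero) |>.1 h4)
  apply act_ext
  intro x
  obtain ⟨x', hx'u, hx'v, e⟩ := decomp hF hv x
  obtain ⟨d, hd⟩ := hzs ⟨x', (Hyp.mem_perp_iff hF).2 ⟨hx'u, hx'v⟩⟩
  have hd' : d • z = x' := congrArg Subtype.val hd
  rw [act_one]
  conv_lhs => rw [e]
  conv_rhs => rw [e]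
  rw [act_add, act_add, act_smul, act_smul, hu, hkv, ← hd', act_smul, ← hc', h3, one_smul]

/-- a `p`-element stabilizing an isotropic line lies in the root group -/
theorem mem_RR_of_line (hF : Fintype.card F = q ^ 2) {p : ℕ} [hp : Fact p.Prime] [CharP F p] {u : Fin 3 → F}
    (hu : Iso q u) {g : SU 3 F q} {m : ℕ} (hg : g ^ p ^ m = 1) {c : F} (hgu : act g u = c • u) :
    g ∈ RR hF hu := by
  have hpow : ∀ j : ℕ, act (g ^ j) u = c ^ j • u := by
    intro j
    induction j with
    | zero => rw [pow_zero, act_one, pow_zero, one_smul]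
    | succ j ih => rw [_root_.pow_succ', act_mul, ih, act_smul, hgu, smul_smul, _root_.pow_succ]
  have h1 := hpow (p ^ m)
  rw [hg, act_one] at h1
  have h2 : c ^ p ^ m = 1 := by
    have h3 : (c ^ p ^ m - 1) • u = 0 := by rw [sub_smul, one_smul, ← h1, sub_self]
    exact sub_eq_zero.1 ((smul_eq_zero.1 h3).resolve_right hu.1)
  have h3 : c = 1 := by
    have h4 : (c - 1) ^ p ^ m = 0 := by
      rw [sub_pow_char_pow, h2, one_pow, sub_self]
    exact sub_eq_zero.1 (pow_eq_zero_iff (pow_ne_zero _ hp.out.ne_zero) |>.1 h4)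
  rw [h3, one_smul] at hgu
  -- the group `⟨g⟩ RR`
  have hfix : ∀ k ∈ Subgroup.zpowers g, act k u = u := by
    intro k hk
    have : Subgroup.zpowers g ≤ ({ carrier := {k | act k u = u}
                                   one_mem' := act_one _
                                   mul_mem' := fun {a b} ha hb => by
                                    show act (a * b) u = u
                                    rw [act_mul, show act b u = u from hb, show act a u = u from ha]
                                   inv_mem' := fun {a} ha => by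
                                    show act a⁻¹ u = u
                                    have h := act_inv_act a u
                                    rwa [show act a u = u from ha] at h } : Subgroup (SU 3 F q)) :=
      Subgroup.zpowers_le.2 hgu
    exact this hk
  have hgp : IsPGroup p (Subgroup.zpowers g) := by
    rintro ⟨_, i, rfl⟩
    refine ⟨m, Subtype.ext ?_⟩
    show (g ^ i) ^ p ^ m = 1
    rw [← _root_.zpow_natCast, ← _root_.zpow_mul, mul_comm, _root_.zpow_mul, _root_.zpow_natCast, hg, _root_.one_zpow]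
  have hPp : IsPGroup p (Subgroup.zpowers g ⊔ RR hF hu : Subgroup (SU 3 F q)) := by
    refine IsPGroup.to_sup_of_normal_right' hgp (RR_isPGroup hF hu) ?_
    intro k hk
    rw [Subgroup.mem_normalizer_iff]
    intro g
    constructor
    · intro hg
      exact RR_conj hF hu hg (hfix k hk)
    · intro hg
      have h2 := RR_conj hF hu (k := k⁻¹) hg (hfix _ (inv_mem hk))
      have : k⁻¹ * (k * g * k⁻¹) * k⁻¹⁻¹ = g := by group
      rwa [this] at h2
  obtain ⟨v, hv⟩ := exists_hyp' hF hu.1 hu.2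
  set v' := act g v with hv'
  have hv'1 : hermForm 3 F q v' v' = 0 := by rw [hv', act_form, hv.2.1]
  have huv' : hermForm 3 F q u v' = 1 := by
    have : hermForm 3 F q u v' = hermForm 3 F q (act g u) (act g v) := by rw [hgu]
    rw [this, act_form, hv.2.2]
  have hvu : hermForm 3 F q v u = 1 := (hv.symm hF).2.2
  have huw : hermForm 3 F q u (v' - v) = 0 := by
    rw [hermForm_sub_right hF, huv', hv.2.2, sub_self]
  have hs : hermForm 3 F q v v' + (hermForm 3 F q v v') ^ q = -hermForm 3 F q (v' - v) (v' - v) := by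
    rw [hermForm_sub_left, hermForm_sub_right hF, hermForm_sub_right hF, hv'1, hv.2.1, hermForm_symm hF]
    ring
  obtain ⟨h, hh⟩ := exists_eich hF u (v' - v) _ hu.2 huw hs
  have hhR : h ∈ RR hF hu := ⟨_, _, huw, hs, hh⟩
  have hhv : act h v = v' := by
    rw [hh v, hvu, hermForm_sub_right hF, hv.2.1]
    module
  have hhu : act h u = u := by
    rw [hh u, hu.2, huw]
    simp
  have hk : h⁻¹ * g ∈ Subgroup.zpowers g ⊔ RR hF hu :=
    mul_mem (Subgroup.mem_sup_right (inv_mem hhR)) (Subgroup.mem_sup_left (Subgroup.mem_zpowers g))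
  obtain ⟨m, hm⟩ := hPp ⟨_, hk⟩
  have hm' : (h⁻¹ * g) ^ p ^ m = 1 := congrArg Subtype.val hm
  have h1 := eq_one_of_fix' hF hv hm' (by
      rw [act_mul, hgu]
      have h := act_inv_act h u
      rwa [hhu] at h) (by
    rw [act_mul, ← hv', ← hhv, act_inv_act])
  rw [← inv_mul_eq_one.1 h1]
  exact hhR

/-- the normalizer of a nontrivial `p`-subgroup stabilizes an isotropic line -/
theorem exists_line (hF : Fintype.card F = q ^ 2) {p : ℕ} [hp : Fact p.Prime] [CharP F p]
    (P : Subgroup (SU 3 F q)) (hP : IsPGroup p P) (hP1 : P ≠ ⊥) :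
    ∃ u : Fin 3 → F, Iso q u ∧ ∀ g ∈ Subgroup.normalizer (P : Set (SU 3 F q)), ∃ c : F, c ≠ 0 ∧ act g u = c • u := by
  let _ := isoAction P
  obtain ⟨⟨u, hu⟩, hfix⟩ := hP.nonempty_fixed_point_of_prime_not_dvd_card {v : Fin 3 → F // Iso q v}
    (not_dvd_card_iso hF (by omega) (dvd_q hF))
  have hfix' : ∀ g ∈ P, act g u = u := fun g hg => congrArg Subtype.val (hfix ⟨g, hg⟩)
  refine ⟨u, hu, fun g hg => ?_⟩
  set w := act g u with hw
  have hwI : Iso q w := hu.act g
  have hwfix : ∀ k ∈ P, act k w = w := by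
    intro k hk
    have h1 : g⁻¹ * k * g ∈ P := by
      have := (Subgroup.mem_normalizer_iff.1 (inv_mem hg) k).1 hk
      rwa [inv_inv] at this
    have h2 := hfix' _ h1
    rw [hw]
    calc act k (act g u) = act g (act (g⁻¹ * k * g) u) := by
          rw [← act_mul, ← act_mul]; congr 1; group
      _ = _ := by rw [h2]
  by_cases h0 : hermForm 3 F q u w = 0
  · -- `w` orthogonal to `u`
    obtain ⟨v, hv⟩ := exists_hyp' hF hu.1 hu.2
    have h1 : w - (hermForm 3 F q w v) • u = 0 := by
      apply eq_zero_of_perp hF hv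
      · rw [hermForm_sub_left, hermForm_smul_left, hu.2, (hermForm_eq_zero_comm hF).1 h0]; ring
      · rw [hermForm_sub_left, hermForm_smul_left, hv.2.2]; ring
      · rw [hermForm_sub_left, hermForm_sub_right hF, hermForm_sub_right hF, hermForm_smul_left,
          hermForm_smul_left, hermForm_smul_right, hermForm_smul_right, hu.2, h0,
          (hermForm_eq_zero_comm hF).1 h0, hwI.2]
        ring
    rw [sub_eq_zero] at h1
    refine ⟨_, ?_, h1⟩
    intro hc
    rw [hc, zero_smul] at h1
    exact hwI.1 h1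
  · exfalso
    apply hP1
    rw [eq_bot_iff]
    intro k hk
    rw [Subgroup.mem_bot]
    -- scale `w`
    obtain ⟨d, hd⟩ : ∃ d : F, hermForm 3 F q u (d • w) = 1 := by
      refine ⟨((hermForm 3 F q u w)⁻¹) ^ q, ?_⟩
      rw [hermForm_smul_right, pow_q_pow_q hF, inv_mul_cancel₀ h0]
    obtain ⟨m, hm⟩ := hP ⟨k, hk⟩
    have hm' : k ^ p ^ m = 1 := congrArg Subtype.val hm
    exact eq_one_of_fix' hF (u := u) (v := d • w) ⟨hu.2, by
      rw [hermForm_smul_left, hermForm_smul_right, hwI.2]; ring, hd⟩ hm' (hfix' k hk)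
      (by rw [act_smul, hwfix k hk])

/-- `SL₂(p)` is not involved in a group with a normal Sylow `p`-subgroup. -/
theorem not_involves_sl {p : ℕ} [hp : Fact p.Prime] {N : Type*} [Group N] [Finite N] (T : Subgroup N) [hTn : T.Normal]
    (hT : IsPGroup p T) (hall : ∀ x : N, (∃ k, x ^ p ^ k = 1) → x ∈ T) :
    ¬ Involves (Matrix.SpecialLinearGroup (Fin 2) (ZMod p)) N := by
  intro h
  obtain ⟨K, f, hf⟩ := involves_iff.1 h
  obtain ⟨P⟩ : Nonempty (Sylow p ↥K) := inferInstance
  have hPT : (P : Subgroup ↥K) ≤ T.subgroupOf K := by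
    intro x hx
    obtain ⟨k, hk⟩ := P.2 ⟨x, hx⟩
    have hk' : x ^ p ^ k = 1 := congrArg Subtype.val hk
    exact hall x ⟨k, congrArg Subtype.val hk'⟩
  have hTp : IsPGroup p ↥(T.subgroupOf K) := hT.comap_of_injective K.subtype K.subtype_injective
  have h1 : (T.subgroupOf K).map f = ⊥ :=
    @sl2_normal_pSubgroup (ZMod p) _ _ p _ _ ((T.subgroupOf K).map f) (Subgroup.Normal.map inferInstance f hf) (hTp.map f)
  have h2 : ((P.mapSurjective hf : Sylow p (Matrix.SpecialLinearGroup (Fin 2) (ZMod p))) :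
      Subgroup (Matrix.SpecialLinearGroup (Fin 2) (ZMod p))) = ⊥ := by
    rw [Sylow.coe_mapSurjective hf P, eq_bot_iff, ← h1]
    exact Subgroup.map_mono hPT
  have h3 : IsPGroup p (Subgroup.zpowers (sl2U (1 : ZMod p))) := by
    rintro ⟨_, i, rfl⟩
    refine ⟨1, Subtype.ext ?_⟩
    show (sl2U (1 : ZMod p) ^ i) ^ p ^ 1 = 1
    rw [← _root_.zpow_natCast, ← _root_.zpow_mul, mul_comm, _root_.zpow_mul, _root_.zpow_natCast, pow_one,
      sl2U_pow, CharP.cast_eq_zero, zero_mul, sl2U_zero, _root_.one_zpow]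
  obtain ⟨Q, hQ⟩ := h3.exists_le_sylow
  have h4 : Nat.card (Q : Subgroup (Matrix.SpecialLinearGroup (Fin 2) (ZMod p))) = 1 := by
    have h5 := (Sylow.card_eq_multiplicity Q).trans (Sylow.card_eq_multiplicity (P.mapSurjective hf)).symm
    change Nat.card (Q : Subgroup (Matrix.SpecialLinearGroup (Fin 2) (ZMod p))) =
      Nat.card ((P.mapSurjective hf : Sylow p (Matrix.SpecialLinearGroup (Fin 2) (ZMod p))) :
      Subgroup (Matrix.SpecialLinearGroup (Fin 2) (ZMod p))) at h5
    rw [h5, h2, Subgroup.card_bot]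
  rw [Subgroup.card_eq_one] at h4
  have h5 := hQ (Subgroup.mem_zpowers _)
  rw [h4, Subgroup.mem_bot, ← sl2U_zero] at h5
  exact one_ne_zero (sl2U_injective h5)

theorem su3_qd_free {p : ℕ} [hp : Fact p.Prime] [CharP F p] (hF : Fintype.card F = q ^ 2) :
    ¬ Involves ↥(qd p) (SU 3 F q) := by
  intro h
  obtain ⟨P, hP, hP1, h1⟩ := exists_local_of_involves_qd h
  have h2 := Cfsg.Agent.H46.involves_trans involves_sl_qd h1
  obtain ⟨u, hu, hN⟩ := exists_line hF P hP hP1
  have hn : ((RR hF hu).subgroupOf (Subgroup.normalizer (P : Set (SU 3 F q)))).Normal := by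
    refine ⟨fun x hx g => ?_⟩
    obtain ⟨c, hc, hg⟩ := hN g g.2
    exact RR_conj' hF hu hx hc hg
  refine not_involves_sl (p := p) ((RR hF hu).subgroupOf (Subgroup.normalizer (P : Set (SU 3 F q)))) ?_ ?_ h2
  · exact (RR_isPGroup hF hu).comap_of_injective _ (Subgroup.subtype_injective _)
  · rintro x ⟨k, hk⟩
    obtain ⟨c, hc, hx⟩ := hN x x.2
    exact mem_RR_of_line hF hu (congrArg Subtype.val hk) hx

end Cfsg.Agent.H46
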